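import Groth.Agent.H20.FreeThick.Sections
import Groth.Agent.H69.LFDesc.Basis

/-!
# Local frames adapted to a trivialisation modulo a power of a constant
-/

set_option autoImplicit false
set_option linter.style.haveILetI false

universe u

open CategoryTheory Limits AlgebraicGeometry Opposite TopologicalSpace
open ZarCoh.FlatBC.PullbackSections

namespace Groth.Agent.H20.FreeThick.Frames

open Groth.Agent.Lib Groth.Agent.Lib.TensorMod Groth.Agent.Lib.TensorMod.Dual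
open Groth.Agent.Lib.TensorMod.Basis Groth.Agent.H78.Formal.Sections Sections

noncomputable section

variable {R : Type u} [CommRing R] {X : Scheme.{u}} [X.Over (Spec (CommRingCat.of R))]

/-- A finite affine cover with frames. -/
theorem exists_frames [CompactSpace X] {E : X.Modules} (hE : FlatMod.IsFinLocFree E) :
    ∃ (ι : Type u) (_ : Finite ι) (U : ι → X.Opens) (r : ι → ℕ) (e : ∀ i, Fin (r i) → Γ(E, U i)),
      (∀ i, IsAffineOpen (U i)) ∧ (⊤ ≤ iSup U) ∧ ∀ i, IsBasis (e i) := by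
  have h : ∀ x : X, ∃ (U : X.Opens) (n : ℕ) (e : Fin n → Γ(E, U)), x ∈ U ∧ IsAffineOpen U ∧ IsBasis e := by
    intro x
    obtain ⟨U₀, n, hx, ⟨i⟩⟩ := hE x
    obtain ⟨e₀, he₀⟩ := exists_basis_of_iso i
    obtain ⟨U, hU, hxU, hle⟩ := exists_isAffineOpen_mem_and_subset (U := U₀) hx
    exact ⟨U, n, _, hxU, hU, he₀.res hle⟩
  choose U r e hx hU he using h
  obtain ⟨F, hF⟩ := isCompact_univ.elim_finite_subcover (fun x => (U x : Set X)) (fun x => (U x).2)
    fun x _ => Set.mem_iUnion.mpr ⟨x, hx x⟩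
  refine ⟨F, inferInstance, fun i => U i.1, fun i => r i.1, fun i => e i.1, fun i => hU i.1,
    fun y hy => ?_, fun i => he i.1⟩
  obtain ⟨x, hxF, hy'⟩ := Set.mem_iUnion₂.mp (hF (Set.mem_univ y))
  exact Opens.mem_iSup.2 ⟨⟨x, hxF⟩, hy'⟩

theorem comb_vecMul {M : X.Modules} {U : X.Opens} {n m : ℕ} (b : Fin n → Γ(M, U)) {V : X.Opens}
    (h : V ≤ U) (a : Fin m → Γ(X, V)) (A : Matrix (Fin m) (Fin n) Γ(X, V)) :
    comb b h (Matrix.vecMul a A) = ∑ k, a k • comb b h (A k) := by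
  simp only [comb, Matrix.vecMul, dotProduct, Finset.sum_smul, Finset.smul_sum, mul_smul]
  exact Finset.sum_comm

theorem comb_single {M : X.Modules} {U : X.Opens} {n : ℕ} (b : Fin n → Γ(M, U)) {V : X.Opens}
    (h : V ≤ U) (l : Fin n) : comb b h (fun k => (1 : Matrix (Fin n) (Fin n) Γ(X, V)) l k) = rs M h (b l) := by
  simp [comb, Matrix.one_apply]

/-- Frames of `E` and a trivialisation of `E` modulo `a ^ N` give invertible matrices modulo `a ^ N`
whose rows give sections agreeing modulo `a ^ N`. -/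
theorem exists_data [X.IsSeparated] (a : R) (N : ℕ) (E : X.Modules) {r : ℕ}
    (α : (Scheme.Modules.pullback (pullback.fst (X ↘ Spec (CommRingCat.of R))
        (Spec.map (CommRingCat.ofHom (Ideal.Quotient.mk (Ideal.span {a ^ N})))))).obj E ≅
      FlatMod.freeMod _ r)
    {ι : Type u} (U : ι → X.Opens) (hU : ∀ i, IsAffineOpen (U i)) (n : ι → ℕ)
    (e : ∀ i, Fin (n i) → Γ(E, U i)) (he : ∀ i, IsBasis (e i)) :
    ∃ (C : ∀ i, Matrix (Fin r) (Fin (n i)) Γ(X, U i)) (D : ∀ i, Matrix (Fin (n i)) (Fin r) Γ(X, U i)),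
      (∀ i, ∃ W : Matrix (Fin r) (Fin r) Γ(X, U i), C i * D i = 1 + sMap R (U i) a ^ N • W) ∧
      (∀ i, ∃ W : Matrix (Fin (n i)) (Fin (n i)) Γ(X, U i), D i * C i = 1 + sMap R (U i) a ^ N • W) ∧
      ∀ i j l, ∃ w : Γ(E, U i ⊓ U j), rs E (inf_le_left : U i ⊓ U j ≤ U i) (∑ k, C i l k • e i k) -
        rs E (inf_le_right : U i ⊓ U j ≤ U j) (∑ k, C j l k • e j k) =
        sMap R (U i ⊓ U j) a ^ N • w := by
  let σ : Spec (CommRingCat.of (R ⧸ Ideal.span {a ^ N})) ⟶ Spec (CommRingCat.of R) :=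
    Spec.map (CommRingCat.ofHom (Ideal.Quotient.mk (Ideal.span {a ^ N})))
  haveI : IsClosedImmersion σ := IsClosedImmersion.spec_of_surjective _ Ideal.Quotient.mk_surjective
  let j₀ := pullback.fst (X ↘ Spec (CommRingCat.of R)) σ
  haveI : IsClosedImmersion j₀ := inferInstanceAs (IsClosedImmersion (pullback.fst _ σ))
  let P := (Scheme.Modules.pullback j₀).obj E
  have hker : ∀ (V : X.Opens), IsAffineOpen V → ∀ t : Γ(X, V), j₀.app V t = 0 →
      ∃ w, t = sMap R V a ^ N * w := by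
    intro V hV t ht
    have h1 := ker_app_le (Ideal.span {a ^ N}) hV t ht
    rw [sIdeal, Ideal.map_span, Set.image_singleton, map_pow, Ideal.mem_span_singleton'] at h1
    obtain ⟨w, hw⟩ := h1
    exact ⟨w, by rw [← hw, mul_comm]⟩
  let β : Fin r → Γ(P, ⊤) := fun l => α.inv.app ⊤ (Modules.Free.gen _ l)
  have hβ : IsBasis β := H69.LFDesc.isBasis_of_iso α.inv (isBasis_freeMod _ r)
  let pe : ∀ i, Fin (n i) → Γ(P, j₀ ⁻¹ᵁ U i) := fun i k => pbRes j₀ E (le_refl (j₀ ⁻¹ᵁ U i)) (e i k)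
  have hpe : ∀ i, IsBasis (pe i) := fun i => H69.LFDesc.isBasis_pbRes j₀ (he i)
  choose C₀ hC₀ using fun i l => (hpe i (j₀ ⁻¹ᵁ U i) le_rfl).2 (rs P le_top (β l))
  choose D₀ hD₀ using fun i k => (hβ (j₀ ⁻¹ᵁ U i) le_top).2 (pe i k)
  have hCD : ∀ i, Matrix.of (C₀ i) * Matrix.of (D₀ i) = 1 := by
    intro i
    refine funext fun l => (hβ (j₀ ⁻¹ᵁ U i) le_top).1 ?_
    show comb β _ (Matrix.vecMul (C₀ i l) (Matrix.of (D₀ i))) = comb β _ _
    rw [comb_single, comb_vecMul, ← hC₀ i l]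
    exact Finset.sum_congr rfl fun k _ => congrArg (C₀ i l k • ·)
      ((hD₀ i k).trans (rs_self P le_rfl (pe i k)).symm)
  have hDC : ∀ i, Matrix.of (D₀ i) * Matrix.of (C₀ i) = 1 := by
    intro i
    refine funext fun k => (hpe i (j₀ ⁻¹ᵁ U i) le_rfl).1 ?_
    show comb (pe i) _ (Matrix.vecMul (D₀ i k) (Matrix.of (C₀ i))) = comb (pe i) _ _
    rw [comb_single, comb_vecMul, rs_self, ← hD₀ i k]
    exact Finset.sum_congr rfl fun l _ => congrArg (D₀ i k l • ·) (hC₀ i l)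
  choose C hC using fun i l k => j₀.app_surjective (U i) (hU i) (C₀ i l k)
  choose D hD using fun i k l => j₀.app_surjective (U i) (hU i) (D₀ i k l)
  have hlift : ∀ {p q : ℕ} (i : ι) (A : Matrix (Fin p) (Fin q) Γ(X, U i))
      (B : Matrix (Fin q) (Fin p) Γ(X, U i)),
      A.map (j₀.app (U i)).hom * B.map (j₀.app (U i)).hom = 1 →
      ∃ W : Matrix (Fin p) (Fin p) Γ(X, U i), A * B = 1 + sMap R (U i) a ^ N • W := by
    intro p q i A B h
    have h0 : ∀ s t, ∃ w, (A * B - 1 : Matrix (Fin p) (Fin p) Γ(X, U i)) s t = sMap R (U i) a ^ N * w := fun s t => hker _ (hU i) _ (by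
      have h1 : (A * B - 1 : Matrix (Fin p) (Fin p) Γ(X, U i)).map (j₀.app (U i)).hom = 0 := by
        rw [← RingHom.mapMatrix_apply, map_sub, map_one, RingHom.mapMatrix_apply, Matrix.map_mul, h,
          sub_self]
      exact congrFun (congrFun h1 s) t)
    choose W hW using h0
    exact ⟨Matrix.of W, Matrix.ext fun s t => by
      rw [Matrix.add_apply, Matrix.smul_apply, Matrix.of_apply, smul_eq_mul, ← hW, Matrix.sub_apply,
        add_sub_cancel]⟩
  have hCm : ∀ i, (Matrix.of (C i)).map (j₀.app (U i)).hom = Matrix.of (C₀ i) :=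
    fun i => Matrix.ext fun l k => hC i l k
  have hDm : ∀ i, (Matrix.of (D i)).map (j₀.app (U i)).hom = Matrix.of (D₀ i) :=
    fun i => Matrix.ext fun k l => hD i k l
  refine ⟨fun i => Matrix.of (C i), fun i => Matrix.of (D i),
    fun i => hlift i _ _ (by rw [hCm, hDm, hCD]), fun i => hlift i _ _ (by rw [hCm, hDm, hDC]), ?_⟩
  intro i j l
  simp only [Matrix.of_apply]
  have hx : ∀ i', pbRes j₀ E (le_refl (j₀ ⁻¹ᵁ U i')) (∑ k, C i' l k • e i' k) = rs P le_top (β l) := by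
    intro i'
    rw [map_sum, ← hC₀ i' l]
    refine Finset.sum_congr rfl fun k _ => ?_
    rw [pbRes_smul, rs_self]
    refine congrArg (· • pe i' k) ?_
    rw [← hC i' l k, Scheme.Hom.app_eq_appLE]
  let V := U i ⊓ U j
  obtain ⟨v, hv⟩ := (he i V inf_le_left).2 (rs E (inf_le_left : V ≤ U i) (∑ k, C i l k • e i k) -
    rs E (inf_le_right : V ≤ U j) (∑ k, C j l k • e j k))
  have hVi : j₀ ⁻¹ᵁ V ≤ j₀ ⁻¹ᵁ U i := j₀.preimage_mono inf_le_left
  have h1 : comb (pe i) hVi (fun k => j₀.app V (v k)) = 0 := by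
    have h2 := congrArg (pbRes j₀ E (le_refl (j₀ ⁻¹ᵁ V))) hv
    have hres : ∀ i' (h' : V ≤ U i'), pbRes j₀ E (le_refl (j₀ ⁻¹ᵁ V)) (rs E h' (∑ k, C i' l k • e i' k)) =
        rs P le_top (β l) := fun i' h' => by
      rw [Cyc.PB.Sect.pbRes_rs, ← Cyc.PB.Sect.rs_pbRes j₀ E (le_refl (j₀ ⁻¹ᵁ U i')) (j₀.preimage_mono h'),
        hx, rs_rs]
    rw [map_sub, hres i inf_le_left, hres j inf_le_right, sub_self] at h2
    rw [← h2]
    simp only [comb]
    rw [map_sum]
    refine Finset.sum_congr rfl fun k _ => ?_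
    rw [pbRes_smul, Cyc.PB.Sect.pbRes_rs, Cyc.PB.Sect.rs_pbRes]
    refine congrArg (· • pbRes j₀ E _ (e i k)) ?_
    rw [Scheme.Hom.app_eq_appLE]
  have h3 : ∀ k, j₀.app V (v k) = 0 := fun k =>
    congrFun ((hpe i (j₀ ⁻¹ᵁ V) hVi).1 (h1.trans (comb_zero (pe i) hVi).symm)) k
  choose w hw using fun k => hker V ((hU i).inf (hU j)) (v k) (h3 k)
  refine ⟨comb (e i) inf_le_left w, ?_⟩
  rw [← comb_smul]
  exact hv.symm.trans (congrArg _ (funext hw))

end

end Groth.Agent.H20.FreeThick.Frames
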