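import Mathlib

/-!
# Comparison of two finite modules over a discrete valuation ring through a torsion module

If `f : M → V` and `p : P → V` have kernels inside `ϖ ^ (m - e)`, the image of `f` lies in the image
of `p` and `M`, `P` have the same rank, then `ϖ ^ (4 * e)` times the image of `p` lies in the image of
`f`, whatever the rank is.
-/

set_option autoImplicit false

namespace Groth.Agent.H20.FreeThick.Lattice

variable {R : Type*} [CommRing R] [IsDomain R] [IsDiscreteValuationRing R] {ϖ : R}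

section Free

variable {F G : Type*} [AddCommGroup F] [Module R F] [Module.Free R F] [Module.Finite R F]
  [AddCommGroup G] [Module R G] [Module.Free R G] [Module.Finite R G]

/-- A map of lattices of equal rank which only sends `ϖ ^ (m - a)` to `ϖ ^ m` has `ϖ ^ a` in its image. -/
theorem pow_smul_mem_range (hϖ : Irreducible ϖ) (A : F →ₗ[R] G)
    (hrank : Module.finrank R F = Module.finrank R G) {a m : ℕ} (ham : a < m)
    (hA : ∀ y, (∃ z, A y = ϖ ^ m • z) → ∃ y', y = ϖ ^ (m - a) • y') (z : G) :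
    ∃ y, A y = ϖ ^ a • z := by
  have hinj : Function.Injective A := by
    rw [← LinearMap.ker_eq_bot]
    refine (Submodule.eq_bot_iff _).2 fun y hy => ?_
    have hstep : ∀ j : ℕ, ∀ y : F, A y = 0 → ∃ y', y = ϖ ^ j • y' := by
      intro j
      induction j with
      | zero => exact fun y _ => ⟨y, by simp⟩
      | succ j ih =>
        intro y hy
        obtain ⟨y₁, hy₁⟩ := hA y ⟨0, by simp [hy]⟩
        have h1 : y = ϖ • (ϖ ^ (m - a - 1) • y₁) := by
          rw [smul_smul, ← pow_succ', Nat.sub_add_cancel (by omega : 1 ≤ m - a), ← hy₁]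
        have h2 : A (ϖ ^ (m - a - 1) • y₁) = 0 := by
          have : ϖ • A (ϖ ^ (m - a - 1) • y₁) = 0 := by rw [← map_smul, ← h1, hy]
          exact (smul_eq_zero.1 this).resolve_left hϖ.ne_zero
        obtain ⟨y₂, hy₂⟩ := ih _ h2
        exact ⟨y₂, by rw [h1, hy₂, smul_smul, ← pow_succ']⟩
    let b := Module.Free.chooseBasis R F
    refine b.ext_elem fun i => ?_
    rw [map_zero, Finsupp.zero_apply]
    by_contra h0
    obtain ⟨k, u, hu⟩ := IsDiscreteValuationRing.eq_unit_mul_pow_irreducible h0 hϖ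
    obtain ⟨y', hy'⟩ := hstep (k + 1) y hy
    have hdvd : ϖ ^ (k + 1) ∣ ϖ ^ k := by
      have h1 : ϖ ^ (k + 1) ∣ b.repr y i := ⟨b.repr y' i, by rw [hy']; simp⟩
      rw [hu] at h1
      exact (Units.dvd_mul_left).1 h1
    have := (pow_dvd_pow_iff hϖ.ne_zero hϖ.not_isUnit).1 hdvd
    omega
  have htors : ∀ z : G, ∃ k : ℕ, ∃ y, A y = ϖ ^ k • z := by
    have hT : Module.IsTorsion R (G ⧸ LinearMap.range A) := by
      rw [← Module.finrank_eq_zero_iff_isTorsion]
      have h1 := Submodule.finrank_quotient_add_finrank (LinearMap.range A)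
      rw [LinearMap.finrank_range_of_inj hinj, hrank] at h1
      omega
    intro z
    obtain ⟨r, hr⟩ := @hT (Submodule.Quotient.mk (p := LinearMap.range A) z)
    obtain ⟨k, u, hu⟩ := IsDiscreteValuationRing.eq_unit_mul_pow_irreducible
      (nonZeroDivisors.coe_ne_zero r) hϖ
    change (r : R) • Submodule.Quotient.mk (p := LinearMap.range A) z = 0 at hr
    rw [← Submodule.Quotient.mk_smul, Submodule.Quotient.mk_eq_zero] at hr
    obtain ⟨y, hy⟩ := hr
    refine ⟨k, (↑u⁻¹ : R) • y, ?_⟩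
    rw [map_smul, hy, smul_smul, hu, ← mul_assoc, Units.inv_mul, one_mul]
  obtain ⟨k, y, hy⟩ := htors z
  induction k generalizing y with
  | zero => exact ⟨ϖ ^ a • y, by rw [map_smul, hy, pow_zero, one_smul]⟩
  | succ k ih =>
    by_cases hk : k + 1 ≤ a
    · exact ⟨ϖ ^ (a - (k + 1)) • y, by
        rw [map_smul, hy, smul_smul, ← pow_add, Nat.sub_add_cancel hk]⟩
    obtain ⟨y', hy'⟩ : ∃ y', y = ϖ • y' := by
      by_cases hkm : m ≤ k + 1
      · obtain ⟨y', hy'⟩ := hA y ⟨ϖ ^ (k + 1 - m) • z, by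
          rw [hy, smul_smul, ← pow_add, Nat.add_sub_cancel' hkm]⟩
        exact ⟨ϖ ^ (m - a - 1) • y', by
          rw [smul_smul, ← pow_succ', Nat.sub_add_cancel (by omega : 1 ≤ m - a), ← hy']⟩
      · obtain ⟨y', hy'⟩ := hA (ϖ ^ (m - (k + 1)) • y) ⟨z, by
          rw [map_smul, hy, smul_smul, ← pow_add, Nat.sub_add_cancel (by omega)]⟩
        refine ⟨ϖ ^ (k + 1 - a - 1) • y', smul_right_injective F (pow_ne_zero (m - (k + 1)) hϖ.ne_zero) ?_⟩
        change ϖ ^ (m - (k + 1)) • y = ϖ ^ (m - (k + 1)) • _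
        rw [hy', smul_smul, smul_smul, ← pow_succ, ← pow_add]
        congr 2
        omega
    refine ih y' (smul_right_injective G hϖ.ne_zero ?_)
    change ϖ • A y' = ϖ • _
    rw [← map_smul, ← hy', hy, pow_succ', mul_smul]

end Free

variable {M P V : Type*} [AddCommGroup M] [Module R M] [Module.Finite R M] [AddCommGroup P]
  [Module R P] [Module.Finite R P] [AddCommGroup V] [Module R V]

/-- A free lattice inside a finite module whose torsion is killed by `ϖ ^ e`. -/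
theorem exists_lattice (hϖ : Irreducible ϖ) (e : ℕ)
    (hM : ∀ (x : M) (n : ℕ), ϖ ^ n • x = 0 → ϖ ^ e • x = 0) :
    ∃ (d : ℕ) (u : (Fin d → R) →ₗ[R] M), d = Module.finrank R M ∧ Function.Injective u ∧
      ∀ x : M, ∃ y, ϖ ^ e • x = u y := by
  let T := LinearMap.ker (LinearMap.lsmul R M (ϖ ^ e))
  have hmem : ∀ x, x ∈ T ↔ ϖ ^ e • x = 0 := fun x => LinearMap.mem_ker
  have : Module.IsTorsionFree R (M ⧸ T) := by
    refine Module.IsTorsionFree.of_smul_eq_zero fun c x hcx => ?_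
    by_cases hc : c = 0
    · exact Or.inl hc
    refine Or.inr ?_
    obtain ⟨x, rfl⟩ := Submodule.Quotient.mk_surjective T x
    obtain ⟨k, v, hv⟩ := IsDiscreteValuationRing.eq_unit_mul_pow_irreducible hc hϖ
    rw [← Submodule.Quotient.mk_smul, Submodule.Quotient.mk_eq_zero, hmem, hv, smul_smul,
      mul_left_comm, ← pow_add, mul_smul] at hcx
    rw [Submodule.Quotient.mk_eq_zero, hmem]
    exact hM x _ ((IsUnit.smul_eq_zero v.isUnit).1 hcx)
  let b := Module.finBasis R (M ⧸ T)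
  choose s hs using fun i => Submodule.Quotient.mk_surjective T (b i)
  let u : (Fin (Module.finrank R (M ⧸ T)) → R) →ₗ[R] M := Fintype.linearCombination R s
  have hmk : ∀ y, Submodule.Quotient.mk (u y) = ∑ i, y i • b i := fun y => by
    change T.mkQ (∑ i, y i • s i) = _
    simp only [map_sum, map_smul, Submodule.mkQ_apply, hs]
  refine ⟨_, u, ?_, ?_, fun x => ⟨ϖ ^ e • ⇑(b.repr (Submodule.Quotient.mk x)), ?_⟩⟩
  · refine finrank_quotient_eq_of_le_torsion fun x hx => ?_
    exact ⟨⟨ϖ ^ e, mem_nonZeroDivisors_of_ne_zero (pow_ne_zero e hϖ.ne_zero)⟩, (hmem x).1 hx⟩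
  · rw [← LinearMap.ker_eq_bot]
    refine (Submodule.eq_bot_iff _).2 fun y hy => ?_
    have h1 := hmk y
    rw [LinearMap.mem_ker.1 hy, Submodule.Quotient.mk_zero] at h1
    exact funext fun i => Fintype.linearIndependent_iff.1 b.linearIndependent y h1.symm i
  · rw [map_smul, ← sub_eq_zero, ← smul_sub, ← hmem, ← Submodule.Quotient.mk_eq_zero,
      Submodule.Quotient.mk_sub, sub_eq_zero, hmk, b.sum_repr]

/-- The main comparison. -/
theorem exists_eq_pow_smul (hϖ : Irreducible ϖ) (e m : ℕ) (hm : 4 * e < m)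
    (hM : ∀ (x : M) (n : ℕ), ϖ ^ n • x = 0 → ϖ ^ e • x = 0)
    (hP : ∀ (x : P) (n : ℕ), ϖ ^ n • x = 0 → ϖ ^ e • x = 0)
    (f : M →ₗ[R] V) (p : P →ₗ[R] V) (hV : ∀ v : V, ϖ ^ m • v = 0)
    (hf : ∀ x, f x = 0 → ∃ y, x = ϖ ^ (m - e) • y) (hp : ∀ x, p x = 0 → ∃ y, x = ϖ ^ (m - e) • y)
    (hrange : ∀ x, ∃ y, p y = f x) (hrank : Module.finrank R M = Module.finrank R P) (x : P) :
    ∃ s, f s = ϖ ^ (4 * e) • p x := by
  obtain ⟨d, u, hd, hu, hu'⟩ := exists_lattice hϖ e hM
  obtain ⟨d', v, hd', hv, hv'⟩ := exists_lattice hϖ e hP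
  -- kernels of the composites
  have hfu : ∀ y, f (u y) = 0 → ∃ y', y = ϖ ^ (m - 2 * e) • y' := by
    intro y hy
    obtain ⟨w, hw⟩ := hf _ hy
    obtain ⟨z, hz⟩ := hu' w
    have h1 : ϖ ^ e • y = ϖ ^ e • (ϖ ^ (m - 2 * e) • z) := hu (by
      rw [map_smul, map_smul, map_smul, hw, ← hz, smul_smul, smul_smul, smul_smul, ← pow_add,
        ← pow_add, ← pow_add]
      congr 2
      omega)
    exact ⟨z, smul_right_injective _ (pow_ne_zero e hϖ.ne_zero) h1⟩
  have hex : ∀ y, ∃ z, p (v z) = ϖ ^ e • f (u y) := fun y => by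
    obtain ⟨w, hw⟩ := hrange (u y)
    obtain ⟨z, hz⟩ := hv' w
    exact ⟨z, by rw [← hz, map_smul, hw]⟩
  choose z hz using hex
  let b := Pi.basisFun R (Fin d)
  let A : (Fin d → R) →ₗ[R] (Fin d' → R) := b.constr ℕ fun i => z (b i)
  have hA : (p ∘ₗ v) ∘ₗ A = ϖ ^ e • (f ∘ₗ u) := b.ext fun i => by
    change p (v (A (b i))) = ϖ ^ e • f (u (b i))
    rw [show A (b i) = z (b i) from b.constr_basis ℕ _ i, hz]
  have hAy : ∀ y, p (v (A y)) = ϖ ^ e • f (u y) := fun y => LinearMap.congr_fun hA y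
  have hker : ∀ y, (∃ z, A y = ϖ ^ m • z) → ∃ y', y = ϖ ^ (m - 3 * e) • y' := by
    rintro y ⟨w, hw⟩
    have h1 : f (u (ϖ ^ e • y)) = 0 := by
      rw [map_smul, map_smul, ← hAy, hw, map_smul, map_smul, hV]
    obtain ⟨y', hy'⟩ := hfu _ h1
    refine ⟨y', smul_right_injective _ (pow_ne_zero e hϖ.ne_zero) ?_⟩
    change ϖ ^ e • y = ϖ ^ e • _
    rw [hy', smul_smul, ← pow_add]
    congr 2
    omega
  obtain ⟨z₀, hz₀⟩ := hv' x
  obtain ⟨y, hy⟩ := pow_smul_mem_range hϖ A (by rw [Module.finrank_fin_fun, Module.finrank_fin_fun, hd, hd', hrank])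
    (by omega : 3 * e < m) hker z₀
  refine ⟨ϖ ^ e • u y, ?_⟩
  rw [map_smul, ← hAy, hy, map_smul, map_smul, ← hz₀, map_smul, smul_smul, ← pow_add]
  congr 2
  omega

end Groth.Agent.H20.FreeThick.Lattice
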