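import Groth.Agent.H20.FreeThick.Sections
import Groth.Agent.Lib.TensorMod.LocFree

/-!
# The generic fibre over a discrete valuation ring and ranks of modules of sections
-/

set_option autoImplicit false
set_option linter.style.haveILetI false

universe u

open CategoryTheory Limits AlgebraicGeometry Opposite TopologicalSpace

namespace Groth.Agent.H20.FreeThick.Rank

open Groth.Agent.Lib Groth.Agent.Lib.TensorMod Groth.Agent.Lib.TensorMod.Dual
open Groth.Agent.Lib.TensorMod.Basis Groth.Agent.H78.Formal.Sections Sections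

noncomputable section

variable {R : Type u} [CommRing R] {X : Scheme.{u}} [X.Over (Spec (CommRingCat.of R))]

/-- Sections as a module over the base ring. -/
@[reducible] def secMod (M : X.Modules) (U : X.Opens) : Module R Γ(M, U) :=
  Module.compHom Γ(M, U) (sMap R U)

/-- Functions as an algebra over the base ring. -/
@[reducible] def funAlg (U : X.Opens) : Algebra R Γ(X, U) := (sMap R U).toAlgebra

attribute [local instance] secMod funAlg

theorem smul_def (M : X.Modules) {U : X.Opens} (r : R) (x : Γ(M, U)) : r • x = sMap R U r • x := rfl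

theorem smul_fun_def {U : X.Opens} (r : R) (x : Γ(X, U)) : r • x = sMap R U r * x :=
  Algebra.smul_def r x

theorem smul_pi_def {U : X.Opens} {n : ℕ} (r : R) (x : Fin n → Γ(X, U)) : r • x = sMap R U r • x :=
  funext fun i => smul_fun_def r (x i)

theorem isLocalization_away [IsDomain R] [IsDiscreteValuationRing R] {ϖ : R} (hϖ : Irreducible ϖ)
    (K : Type u) [Field K] [Algebra R K] [IsFractionRing R K] : IsLocalization.Away ϖ K := by
  refine (IsLocalization.iff_of_le_of_exists_dvd (S := K) (M := Submonoid.powers ϖ) (nonZeroDivisors R) ?_ ?_).2 ‹_›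
  · exact Submonoid.powers_le.2 (mem_nonZeroDivisors_of_ne_zero hϖ.ne_zero)
  · intro n hn
    obtain ⟨k, u, hu⟩ := IsDiscreteValuationRing.eq_unit_mul_pow_irreducible (nonZeroDivisors.ne_zero hn) hϖ
    exact ⟨ϖ ^ k, ⟨k, rfl⟩, by rw [hu]; exact Units.mul_left_dvd.2 dvd_rfl⟩

theorem sMap_top (a : R) :
    sMap R (⊤ : X.Opens) a = Coh.toGlobal (X ↘ Spec (CommRingCat.of R)) a := by
  change (X.ringCatSheaf.obj.map (𝟙 (op ⊤))).hom (Coh.toGlobal (X ↘ Spec (CommRingCat.of R)) a) = _
  rw [CategoryTheory.Functor.map_id]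
  rfl

variable {K : Type u} [CommRing K] [Algebra R K] {ϖ : R} [IsLocalization.Away ϖ K]

/-- A free pullback to `X[1/ϖ]` gives a frame over `D(ϖ)`. -/
theorem exists_generic_basis (E : X.Modules) {n : ℕ}
    (α : (Scheme.Modules.pullback (pullback.fst (X ↘ Spec (CommRingCat.of R))
        (Spec.map (CommRingCat.ofHom (algebraMap R K))))).obj E ≅ FlatMod.freeMod _ n) :
    ∃ b : Fin n → Γ(E, X.basicOpen (sMap R (⊤ : X.Opens) ϖ)), IsBasis b := by
  let pX := X ↘ Spec (CommRingCat.of R)
  let κ : Spec (CommRingCat.of K) ⟶ Spec (CommRingCat.of R) := Spec.map (CommRingCat.ofHom (algebraMap R K))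
  haveI : IsOpenImmersion κ := IsOpenImmersion.of_isLocalization ϖ
  let g := pullback.fst pX κ
  let G := X.basicOpen (sMap R (⊤ : X.Opens) ϖ)
  have hG : g.opensRange = G := by
    apply Opens.ext
    show Set.range g = _
    rw [Scheme.Pullback.range_fst]
    show pX ⁻¹' Set.range κ = _
    rw [show Set.range κ = (PrimeSpectrum.basicOpen ϖ : Set (PrimeSpectrum R)) from
      PrimeSpectrum.localization_away_comap_range K ϖ]
    have h1 : X.basicOpen (pX.appTop ((Scheme.ΓSpecIso (CommRingCat.of R)).inv ϖ)) =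
        pX ⁻¹ᵁ PrimeSpectrum.basicOpen ϖ := by
      rw [← Scheme.preimage_basicOpen_top, basicOpen_eq_of_affine]
    simp only [G, sMap_top]
    exact (congrArg (fun V : X.Opens => (V : Set X)) h1).symm
  let φ := g.isoOpensRange ≪≫ X.isoOfEq hG
  have hφ : G.ι = φ.inv ≫ g := by
    rw [Iso.eq_inv_comp]
    simp [φ, Scheme.isoOfEq_hom]
  refine exists_basis_of_iso (U := G) ?_
  exact (Scheme.Modules.restrictFunctorIsoPullback G.ι).app E ≪≫
    (Scheme.Modules.pullbackCongr hφ).app E ≪≫
    ((Scheme.Modules.pullbackComp φ.inv g).app E).symm ≪≫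
    (Scheme.Modules.pullback φ.inv).mapIso α ≪≫ LocFree.pullbackFreeModIso φ.inv n

/-- Global sections localise to the sections over `D(ϖ)`, so their rank is read off a frame there. -/
theorem finrank_eq [IsDomain R] (hϖ : ϖ ≠ 0) [CompactSpace X] [QuasiSeparatedSpace X] (E : X.Modules)
    [E.IsQuasicoherent] {n : ℕ} (b : Fin n → Γ(E, X.basicOpen (sMap R (⊤ : X.Opens) ϖ))) (hb : IsBasis b) :
    Module.finrank R Γ(E, ⊤) =
      Module.finrank R (Fin n → Γ(X, X.basicOpen (sMap R (⊤ : X.Opens) ϖ))) := by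
  let G := X.basicOpen (sMap R (⊤ : X.Opens) ϖ)
  let c := Equiv.ofBijective _ (hb G le_rfl)
  have hc : ∀ v, comb b le_rfl (c.symm v) = v := fun v => c.apply_symm_apply v
  have hrs : ∀ (r : R) (s : Γ(E, ⊤)), rs E le_top (r • s) = sMap R G r • rs E (le_top : G ≤ ⊤) s :=
    fun r s => by rw [smul_def, rs_smul, rf_sMap]
  let j : Γ(E, ⊤) →ₗ[R] (Fin n → Γ(X, G)) :=
    { toFun := fun s => c.symm (rs E le_top s)
      map_add' := fun s t => (hb G le_rfl).1 (by rw [comb_add, hc, hc, hc, Sections.rs_add])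
      map_smul' := fun r s => (hb G le_rfl).1 (by
        rw [RingHom.id_apply, smul_pi_def, comb_smul, hc, hc, hrs]) }
  have hj : ∀ s, comb b le_rfl (j s) = rs E le_top s := fun s => hc _
  have hloc := QCoh.Localizing.localizes_of_qcqs (M := E) (U := (⊤ : X.Opens)) isCompact_univ
    (isQuasiSeparated_univ_iff.2 inferInstance) (sMap R (⊤ : X.Opens) ϖ)
  have hunit : ∀ k : ℕ, IsUnit (sMap R G (ϖ ^ k)) := fun k => by
    rw [map_pow, ← rf_sMap (le_top : G ≤ ⊤) ϖ]
    exact (RingedSpace.isUnit_res_basicOpen X.toLocallyRingedSpace.toRingedSpace _).pow k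
  haveI : IsLocalizedModule (Submonoid.powers ϖ) j :=
    { map_units := by
        rintro ⟨_, k, rfl⟩
        refine (Module.End.isUnit_iff _).2 ?_
        have h1 : ⇑(algebraMap R (Module.End R (Fin n → Γ(X, G))) (ϖ ^ k)) = fun v => sMap R G (ϖ ^ k) • v :=
          funext fun v => smul_pi_def _ v
        rw [h1]
        obtain ⟨w, hw⟩ := hunit k
        exact Function.bijective_iff_has_inverse.2 ⟨fun v => (↑w⁻¹ : Γ(X, G)) • v,
          fun v => by simp only [← hw, smul_smul, Units.inv_mul, one_smul],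
          fun v => by simp only [← hw, smul_smul, Units.mul_inv, one_smul]⟩
      surj := fun y => by
        obtain ⟨k, t, ht⟩ := hloc.ext' (comb b le_rfl y)
        refine ⟨⟨t, ⟨ϖ ^ k, k, rfl⟩⟩, (hb G le_rfl).1 ?_⟩
        show comb b le_rfl ((ϖ ^ k) • y) = comb b le_rfl (j t)
        rw [hj, smul_pi_def, comb_smul]
        refine Eq.trans ?_ ht.symm
        refine congrArg (· • comb b le_rfl y) ?_
        rw [map_pow, ← rf_sMap (le_top : G ≤ ⊤) ϖ]
      exists_of_eq := fun {x y} hxy => by
        obtain ⟨k, hk⟩ := hloc.sep.exists_pow_smul_eq (t := x) (t' := y)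
          ((hj x).symm.trans ((congrArg (comb b le_rfl) hxy).trans (hj y)))
        refine ⟨⟨ϖ ^ k, k, rfl⟩, ?_⟩
        show sMap R (⊤ : X.Opens) (ϖ ^ k) • x = sMap R (⊤ : X.Opens) (ϖ ^ k) • y
        rw [map_pow]
        exact hk }
  exact (IsLocalizedModule.finrank_eq (p := Submonoid.powers ϖ) j
    (Submonoid.powers_le.2 (mem_nonZeroDivisors_of_ne_zero hϖ))).symm

end

end Groth.Agent.H20.FreeThick.Rank
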