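import Groth.Agent.H20.FreeThick.Frames
import Groth.Agent.H20.FreeThick.Rank
import Groth.Agent.H20.FreeThick.Lattice

/-!
# A bundle free on the generic fibre and on a deep thickening of the closed fibre is free
-/

set_option autoImplicit false
set_option linter.style.haveILetI false

universe u

open CategoryTheory Limits AlgebraicGeometry Opposite TopologicalSpace

namespace Groth.Agent.H20.FreeThick.Main

open Groth.Agent.Lib Groth.Agent.Lib.TensorMod Groth.Agent.Lib.TensorMod.Dual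
open Groth.Agent.Lib.TensorMod.Basis Groth.Agent.H78.Formal.Sections Sections Frames Rank

noncomputable section

attribute [local instance] secMod funAlg

variable {R : Type u} [CommRing R] {X : Scheme.{u}} [X.Over (Spec (CommRingCat.of R))]

theorem card_eq_of_inverse {F : Type*} [Field F] {r n : ℕ} (A : Matrix (Fin r) (Fin n) F)
    (B : Matrix (Fin n) (Fin r) F) (hAB : A * B = 1) (hBA : B * A = 1) : r = n := by
  have h := (Matrix.toLin'OfInv hBA hAB).finrank_eq
  simpa [Module.finrank_fin_fun] using h.symm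

theorem comb_le_rfl {M : X.Modules} {U : X.Opens} {n : ℕ} (b : Fin n → Γ(M, U)) (v : Fin n → Γ(X, U)) :
    comb b le_rfl v = ∑ k, v k • b k := by simp only [comb, rs_self]

theorem exists_isIso_of_basis {E : X.Modules} {r : ℕ} {z : Fin r → Γ(E, ⊤)} (hz : IsBasis z) :
    Nonempty (E ≅ FlatMod.freeMod X r) := by
  let φ := Modules.Free.freeHom z
  have : IsIso φ := by
    rw [Scheme.Modules.Hom.isIso_iff_isIso_app]
    intro W
    refine (ConcreteCategory.isIso_iff_bijective _).2 ?_
    refine (Function.Bijective.of_comp_iff _ (isBasis_freeMod X r W le_top)).1 ?_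
    have h : φ.app W ∘ comb (U := (⊤ : X.Opens)) (Modules.Free.gen X) (le_top (a := W)) =
        comb z le_top := by
      funext a
      rw [Function.comp_apply, app_comb]
      simp only [φ, Modules.Free.freeHom_app_gen]
    rw [h]
    exact hz W le_top
  exact ⟨(asIso φ).symm⟩

/-- Two frames around one point have the same size. -/
theorem basis_card_eq {E : X.Modules} {U U' : X.Opens} {m n : ℕ} {b : Fin m → Γ(E, U)}
    {b' : Fin n → Γ(E, U')} (hb : IsBasis b) (hb' : IsBasis b') (x : X) (hx : x ∈ U) (hx' : x ∈ U') :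
    m = n := by
  let V := U ⊓ U'
  choose A hA using fun k => (hb' V inf_le_right).2 (rs E inf_le_left (b k))
  choose B hB using fun k => (hb V inf_le_left).2 (rs E inf_le_right (b' k))
  have h1 : Matrix.of A * Matrix.of B = 1 := funext fun k => (hb V inf_le_left).1 (by
    show comb b _ (Matrix.vecMul (A k) (Matrix.of B)) = comb b _ _
    rw [comb_single, comb_vecMul, ← hA k]
    exact Finset.sum_congr rfl fun j _ => congrArg (A k j • ·) (hB j))
  have h2 : Matrix.of B * Matrix.of A = 1 := funext fun k => (hb' V inf_le_right).1 (by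
    show comb b' _ (Matrix.vecMul (B k) (Matrix.of A)) = comb b' _ _
    rw [comb_single, comb_vecMul, ← hB k]
    exact Finset.sum_congr rfl fun j _ => congrArg (B k j • ·) (hA j))
  let ev := (X.evaluation V x ⟨hx, hx'⟩).hom
  exact card_eq_of_inverse ((Matrix.of A).map ev) ((Matrix.of B).map ev)
    (by rw [← Matrix.map_mul, h1, Matrix.map_one ev ev.map_zero ev.map_one])
    (by rw [← Matrix.map_mul, h2, Matrix.map_one ev ev.map_zero ev.map_one])

/-- A frame moved by a matrix congruent to an invertible one is a frame near the point. -/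
theorem exists_basis_near {E : X.Modules} {U : X.Opens} {n r : ℕ} {b : Fin n → Γ(E, U)} (hb : IsBasis b)
    {F : Type u} [Field F] (ev : Γ(X, U) →+* F) (y : X) (hy : y ∈ U)
    (hev : ∀ t, ev t ≠ 0 → y ∈ X.basicOpen t)
    (C : Matrix (Fin r) (Fin n) Γ(X, U)) (D : Matrix (Fin n) (Fin r) Γ(X, U))
    (hCD : C.map ev * D.map ev = 1) (hDC : D.map ev * C.map ev = 1)
    (z : Fin r → Γ(E, U)) (Z : Matrix (Fin r) (Fin n) Γ(X, U)) (hz : ∀ l, z l = comb b le_rfl (Z l))
    (hZ : Z.map ev = C.map ev) :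
    ∃ (W : X.Opens) (hW : W ≤ U), y ∈ W ∧ IsBasis fun l => rs E hW (z l) := by
  obtain rfl := card_eq_of_inverse _ _ hCD hDC
  have hdet : ev Z.det ≠ 0 := by
    rw [RingHom.map_det, RingHom.mapMatrix_apply, hZ]
    exact Matrix.det_ne_zero_of_right_inverse hCD
  refine ⟨X.basicOpen Z.det, X.basicOpen_le _, hev _ hdet, ?_⟩
  have h := (hb.res (X.basicOpen_le Z.det)).of_matrix (Z.map (rf (X.basicOpen_le Z.det))) (by
    have h1 := RingedSpace.isUnit_res_basicOpen X.toLocallyRingedSpace.toRingedSpace Z.det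
    have h2 := RingHom.map_det (X.presheaf.map (homOfLE (X.basicOpen_le Z.det)).op).hom Z
    exact h2 ▸ h1)
  convert h using 1
  funext l
  rw [hz l, rs_comb]
  rfl

variable [IsDomain R] [IsDiscreteValuationRing R] {ϖ : R}

theorem basicOpen_sMap (U : X.Opens) (a : R) :
    X.basicOpen (sMap R U a) = U ⊓ X.basicOpen (sMap R (⊤ : X.Opens) a) := by
  rw [← rf_sMap (le_top : U ≤ ⊤) a]
  exact Scheme.basicOpen_res X _ _

theorem notMem_of_closed (hϖ : Irreducible ϖ) (y : X)
    (hy : (X ↘ Spec (CommRingCat.of R)) y = IsLocalRing.closedPoint R) :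
    y ∉ X.basicOpen (sMap R (⊤ : X.Opens) ϖ) := by
  intro h
  have h1 : X.basicOpen ((X ↘ Spec (CommRingCat.of R)).appTop ((Scheme.ΓSpecIso (CommRingCat.of R)).inv ϖ)) =
      (X ↘ Spec (CommRingCat.of R)) ⁻¹ᵁ PrimeSpectrum.basicOpen ϖ := by
    rw [← Scheme.preimage_basicOpen_top, basicOpen_eq_of_affine]
  rw [sMap_top] at h
  have h2 : y ∈ (X ↘ Spec (CommRingCat.of R)) ⁻¹ᵁ PrimeSpectrum.basicOpen ϖ :=
    (congrArg (fun V : X.Opens => y ∈ V) h1).mp h
  change ϖ ∉ ((X ↘ Spec (CommRingCat.of R)) y).asIdeal at h2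
  rw [hy] at h2
  exact h2 ((IsLocalRing.mem_maximalIdeal ϖ).2 hϖ.not_isUnit)

theorem exists_specializes_closed [UniversallyClosed (X ↘ Spec (CommRingCat.of R))] (x : X) :
    ∃ y, x ⤳ y ∧ (X ↘ Spec (CommRingCat.of R)) y = IsLocalRing.closedPoint R := by
  have h := (X ↘ Spec (CommRingCat.of R)).isClosedMap _ (isClosed_closure (s := {x}))
  obtain ⟨y, hy, he⟩ := h.closure_subset_iff.2
    (Set.singleton_subset_iff.2 (Set.mem_image_of_mem _ (subset_closure rfl)))
    (specializes_iff_mem_closure.1 (IsLocalRing.specializes_closedPoint ((X ↘ Spec (CommRingCat.of R)) x)))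
  exact ⟨y, specializes_iff_mem_closure.2 hy, he⟩

theorem mk_eq_zero_iff' {U : X.Opens} (a : R) (m : ℕ) (t : Γ(X, U)) :
    Ideal.Quotient.mk (Ideal.span {sMap R U a ^ m}) t = 0 ↔ ∃ w, t = sMap R U a ^ m * w := by
  rw [Ideal.Quotient.eq_zero_iff_mem, Ideal.mem_span_singleton']
  exact ⟨fun ⟨w, hw⟩ => ⟨w, by rw [← hw, mul_comm]⟩, fun ⟨w, hw⟩ => ⟨w, by rw [hw, mul_comm]⟩⟩

theorem exists_coord {E : X.Modules} {U : X.Opens} {n : ℕ} {b : Fin n → Γ(E, U)} (hb : IsBasis b) :
    ∃ co : Γ(E, ⊤) →ₗ[R] (Fin n → Γ(X, U)), ∀ s, comb b le_rfl (co s) = rs E le_top s := by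
  let c := Equiv.ofBijective _ (hb U le_rfl)
  have hc : ∀ v, comb b le_rfl (c.symm v) = v := fun v => c.apply_symm_apply v
  exact ⟨{ toFun := fun s => c.symm (rs E le_top s)
           map_add' := fun s t => (hb U le_rfl).1 (by rw [comb_add, hc, hc, hc, Sections.rs_add])
           map_smul' := fun r s => (hb U le_rfl).1 (by
             rw [RingHom.id_apply, smul_pi_def, comb_smul, hc, hc, Rank.smul_def, rs_smul, rf_sMap]) },
    fun s => hc _⟩

/-- The main theorem. -/
theorem exists_bound [IsProper (X ↘ Spec (CommRingCat.of R))] (hϖ : Irreducible ϖ) (K : Type u) [Field K]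
    [Algebra R K] [IsFractionRing R K] :
    ∃ N : ℕ, ∀ E : X.Modules, FlatMod.IsFinLocFree E →
      ∀ r' : ℕ, ((Scheme.Modules.pullback (pullback.fst (X ↘ Spec (CommRingCat.of R))
        (Spec.map (CommRingCat.ofHom (algebraMap R K))))).obj E ≅ FlatMod.freeMod _ r') →
      ∀ r : ℕ, ((Scheme.Modules.pullback (pullback.fst (X ↘ Spec (CommRingCat.of R))
        (Spec.map (CommRingCat.ofHom (Ideal.Quotient.mk (Ideal.span {ϖ ^ N})))))).obj E ≅
          FlatMod.freeMod _ r) →
      Nonempty (E ≅ FlatMod.freeMod X r) := by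
  classical
  haveI : IsLocallyNoetherian X := LocallyOfFiniteType.isLocallyNoetherian (X ↘ Spec (CommRingCat.of R))
  haveI : CompactSpace X :=
    QuasiCompact.compactSpace_of_compactSpace (X ↘ Spec (CommRingCat.of R))
  haveI : X.IsSeparated := Scheme.IsSeparated.mk (by
    rw [← terminal.comp_from (X ↘ Spec (CommRingCat.of R))]; infer_instance)
  haveI : QuasiSeparatedSpace X := inferInstance
  haveI := isLocalization_away hϖ K
  obtain ⟨e₀, htors⟩ := exists_tors (X := X) ϖ
  let m := 5 * e₀ + 1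
  obtain ⟨N, hmN, hlift⟩ := Sections.exists_lift (X := X) ϖ m
  refine ⟨N, fun E hE r' αK r α => ?_⟩
  obtain ⟨ι, hι, U, n, e, hU, hcov, he⟩ := exists_frames hE
  obtain ⟨C, D, hCD, hDC, hx⟩ := exists_data ϖ N E α U hU n e he
  choose W₁ hW₁ using hCD
  choose W₂ hW₂ using hDC
  choose w₀ hw₀ using hx
  haveI := Fintype.ofFinite ι
  let c : ∀ i, Γ(X, U i) := fun i => sMap R (U i) ϖ
  let xt : ∀ i, Fin r → Γ(E, U i) := fun i l => comb (e i) le_rfl (C i l)
  have hxt : ∀ i j l, rs E (inf_le_left : U i ⊓ U j ≤ U i) (xt i l) -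
      rs E (inf_le_right : U i ⊓ U j ≤ U j) (xt j l) = sMap R (U i ⊓ U j) ϖ ^ N • w₀ i j l := fun i j l => by
    simp only [xt, comb_le_rfl]
    exact hw₀ i j l
  -- evaluation at points of the closed fibre
  have hev : ∀ (y : X), (X ↘ Spec (CommRingCat.of R)) y = IsLocalRing.closedPoint R → ∀ i (hy : y ∈ U i),
      (X.evaluation (U i) y hy) (c i) = 0 := fun y hyc i hy => by
    rw [Scheme.evaluation_eq_zero_iff_notMem_basicOpen, basicOpen_sMap]
    exact fun h => notMem_of_closed hϖ y hyc h.2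
  have hevC : ∀ (y : X), (X ↘ Spec (CommRingCat.of R)) y = IsLocalRing.closedPoint R → ∀ i (hy : y ∈ U i),
      (C i).map (X.evaluation (U i) y hy).hom * (D i).map (X.evaluation (U i) y hy).hom = 1 ∧
      (D i).map (X.evaluation (U i) y hy).hom * (C i).map (X.evaluation (U i) y hy).hom = 1 := by
    intro y hyc i hy
    let ev := (X.evaluation (U i) y hy).hom
    have h0 : ev (c i ^ N) = 0 := by
      rw [map_pow, show ev (c i) = 0 from hev y hyc i hy, zero_pow (by omega)]
    have hmap : ∀ {p : ℕ} (W : Matrix (Fin p) (Fin p) Γ(X, U i)),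
        (1 + c i ^ N • W).map ev = 1 := fun W => Matrix.ext fun s t => by
      rw [Matrix.map_apply, Matrix.add_apply, Matrix.smul_apply, smul_eq_mul, map_add, map_mul, h0,
        zero_mul, add_zero, Matrix.one_apply, Matrix.one_apply, apply_ite ev, map_one, map_zero]
    exact ⟨by rw [← Matrix.map_mul, hW₁ i, hmap], by rw [← Matrix.map_mul, hW₂ i, hmap]⟩
  have hrank : ∀ x : X, ∃ i, x ∈ U i ∧ r = n i := by
    intro x
    obtain ⟨y, hxy, hyc⟩ := exists_specializes_closed (R := R) x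
    obtain ⟨i, hi⟩ := Opens.mem_iSup.1 (hcov (Opens.mem_top y))
    exact ⟨i, hxy.mem_open (U i).2 hi, card_eq_of_inverse _ _ (hevC y hyc i hi).1 (hevC y hyc i hi).2⟩
  have hMtors : TorsMod E ϖ e₀ := torsMod_of_basis htors E fun x => by
    obtain ⟨i, hi⟩ := Opens.mem_iSup.1 (hcov (Opens.mem_top x))
    exact ⟨U i, n i, e i, hi, he i⟩
  have hOtors : TorsMod (Coh.structureModule X) ϖ e₀ := torsMod_structure htors
  -- ranks
  have hEcoh : Coh.IsCoh E := Perfect.Coherent.isCoh_of_isFinLocFree hE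
  haveI := hEcoh.1
  have hfree : Coh.IsCoh (FlatMod.freeMod X r) := Perfect.Coherent.isCoh_freeMod X r
  haveI := hfree.1
  let Pfree : (Fin r → Γ(X, ⊤)) ≃ₗ[R] Γ(FlatMod.freeMod X r, ⊤) :=
    LinearEquiv.ofBijective
      { toFun := comb (U := (⊤ : X.Opens)) (Modules.Free.gen X) le_rfl
        map_add' := comb_add _ _
        map_smul' := fun a v => by rw [RingHom.id_apply, smul_pi_def, comb_smul]; rfl }
      (isBasis_freeMod X r ⊤ le_rfl)
  haveI : Module.Finite R Γ(E, ⊤) := Sections.finite_sections hEcoh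
  haveI : Module.Finite R Γ(FlatMod.freeMod X r, ⊤) := Sections.finite_sections hfree
  haveI : Module.Finite R (Fin r → Γ(X, ⊤)) := Module.Finite.equiv Pfree.symm
  have hfinrank : Module.finrank R Γ(E, ⊤) = Module.finrank R (Fin r → Γ(X, ⊤)) := by
    obtain ⟨g', hg'⟩ := exists_generic_basis (ϖ := ϖ) E αK
    obtain ⟨g, hg⟩ : ∃ g : Fin r → Γ(E, X.basicOpen (sMap R (⊤ : X.Opens) ϖ)), IsBasis g := by
      by_cases hne : ∃ x : X, x ∈ X.basicOpen (sMap R (⊤ : X.Opens) ϖ)
      · obtain ⟨x, hx⟩ := hne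
        obtain ⟨i, hi, hir⟩ := hrank x
        obtain rfl : r' = r := (basis_card_eq hg' (he i) x hx hi).trans hir.symm
        exact ⟨g', hg'⟩
      · exact ⟨0, fun V hV => ⟨fun v w _ => funext fun k => Sections.ext_locally (Coh.structureModule X)
            fun x hx => (hne ⟨x, hV hx⟩).elim,
          fun t => ⟨0, Sections.ext_locally E fun x hx => (hne ⟨x, hV hx⟩).elim⟩⟩⟩
    rw [Rank.finrank_eq hϖ.ne_zero E g hg, Pfree.finrank_eq,
      Rank.finrank_eq hϖ.ne_zero (FlatMod.freeMod X r) _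
        ((isBasis_freeMod X r).res (le_top : X.basicOpen (sMap R (⊤ : X.Opens) ϖ) ≤ ⊤))]
  -- the two maps
  choose co hco using fun i => exists_coord (R := R) (he i)
  let q : ∀ i, (Fin r → Γ(X, ⊤)) →ₗ[R] (Fin (n i) → Γ(X, U i)) := fun i =>
    { toFun := fun a => Matrix.vecMul (fun l => rf le_top (a l)) (C i)
      map_add' := fun a b => by
        rw [← Matrix.add_vecMul]
        exact congrArg (Matrix.vecMul · (C i)) (funext fun l => map_add _ _ _)
      map_smul' := fun t a => by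
        rw [RingHom.id_apply, smul_pi_def, ← Matrix.smul_vecMul]
        refine congrArg (Matrix.vecMul · (C i)) (funext fun l => ?_)
        show rf le_top (t • a l) = sMap R (U i) t * rf le_top (a l)
        rw [smul_fun_def, rf_mul, rf_sMap] }
  let mkL : ∀ i, Γ(X, U i) →ₗ[R] (Γ(X, U i) ⧸ Ideal.span {c i ^ m}) :=
    fun i => (Ideal.Quotient.mkₐ R (Ideal.span {c i ^ m})).toLinearMap
  let red : ∀ i, (Fin (n i) → Γ(X, U i)) →ₗ[R] (Fin (n i) → Γ(X, U i) ⧸ Ideal.span {c i ^ m}) :=
    fun i => LinearMap.pi fun k => mkL i ∘ₗ LinearMap.proj k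
  let f : Γ(E, ⊤) →ₗ[R] (∀ i, Fin (n i) → Γ(X, U i) ⧸ Ideal.span {c i ^ m}) :=
    LinearMap.pi fun i => red i ∘ₗ co i
  let p : (Fin r → Γ(X, ⊤)) →ₗ[R] (∀ i, Fin (n i) → Γ(X, U i) ⧸ Ideal.span {c i ^ m}) :=
    LinearMap.pi fun i => red i ∘ₗ q i
  have hred : ∀ i v, red i v = 0 → ∃ w, v = c i ^ m • w := fun i v hv => by
    choose w hw using fun k => (mk_eq_zero_iff' ϖ m (v k)).1 (congrFun hv k)
    exact ⟨w, funext fun k => hw k⟩
  have hred' : ∀ i (v w : Fin (n i) → Γ(X, U i)), (∃ t, v - w = c i ^ m • t) → red i v = red i w :=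
    fun i v w ⟨t, ht⟩ => funext fun k => by
      refine sub_eq_zero.1 ((map_sub (mkL i) (v k) (w k)).symm.trans ?_)
      exact (mk_eq_zero_iff' ϖ m _).2 ⟨t k, congrFun ht k⟩
  have hf : ∀ s, f s = 0 → ∃ y, s = ϖ ^ (m - e₀) • y := by
    intro s hs
    obtain ⟨y, hy⟩ := exists_div hMtors U hcov (by omega : e₀ ≤ m) s fun i => by
      obtain ⟨w, hw⟩ := hred i (co i s) (congrFun hs i)
      exact ⟨comb (e i) le_rfl w, by rw [← hco i s, hw, comb_smul]⟩
    exact ⟨y, by rw [Rank.smul_def, map_pow]; exact hy⟩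
  have hp : ∀ a, p a = 0 → ∃ y, a = ϖ ^ (m - e₀) • y := by
    intro a ha
    have h0 : ∀ i, ∃ t, (fun l => rf (le_top : U i ≤ ⊤) (a l)) = c i ^ m • t := fun i => by
      obtain ⟨w, hw⟩ := hred i (q i a) (congrFun ha i)
      let a' : Fin r → Γ(X, U i) := fun l => rf (le_top : U i ≤ ⊤) (a l)
      refine ⟨Matrix.vecMul w (D i) - c i ^ (N - m) • Matrix.vecMul a' (W₁ i), ?_⟩
      have h1 : Matrix.vecMul (Matrix.vecMul a' (C i)) (D i) = c i ^ m • Matrix.vecMul w (D i) := by
        rw [show Matrix.vecMul a' (C i) = c i ^ m • w from hw, Matrix.smul_vecMul]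
      rw [Matrix.vecMul_vecMul, hW₁ i, Matrix.vecMul_add, Matrix.vecMul_one, Matrix.vecMul_smul] at h1
      rw [smul_sub, smul_smul, ← pow_add, Nat.add_sub_cancel' hmN, ← h1, add_sub_cancel_right]
    choose t ht using h0
    choose y hy using fun l => exists_div hOtors U hcov (by omega : e₀ ≤ m) (a l) fun i =>
      ⟨t i l, congrFun (ht i) l⟩
    let y' : Fin r → Γ(X, ⊤) := y
    exact ⟨y', funext fun l => (hy l).trans (by rw [Pi.smul_apply, smul_fun_def, map_pow]; rfl)⟩
  have hV : ∀ v : (∀ i, Fin (n i) → Γ(X, U i) ⧸ Ideal.span {c i ^ m}), ϖ ^ m • v = 0 := fun v =>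
    funext fun i => funext fun k => by
      obtain ⟨t, ht⟩ := Ideal.Quotient.mk_surjective (v i k)
      show ϖ ^ m • v i k = 0
      rw [← ht, show ϖ ^ m • Ideal.Quotient.mk (Ideal.span {c i ^ m}) t = mkL i (ϖ ^ m • t) from
        ((mkL i).map_smul _ _).symm]
      exact (mk_eq_zero_iff' ϖ m _).2 ⟨t, by rw [smul_fun_def, map_pow]⟩
  have hrange : ∀ s, ∃ a, p a = f s := by
    intro s
    let b : ∀ i, Fin r → Γ(X, U i) := fun i => Matrix.vecMul (co i s) (D i)
    have hbC : ∀ i, Matrix.vecMul (b i) (C i) = co i s + c i ^ N • Matrix.vecMul (co i s) (W₂ i) :=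
      fun i => by rw [Matrix.vecMul_vecMul, hW₂ i, Matrix.vecMul_add, Matrix.vecMul_one, Matrix.vecMul_smul]
    have hs : ∀ i, (∑ l, b i l • xt i l) = rs E le_top s +
        c i ^ N • comb (e i) le_rfl (Matrix.vecMul (co i s) (W₂ i)) := fun i => by
      rw [← comb_vecMul, hbC, comb_add, comb_smul, hco]
    have hb : ∀ i j l, ∃ w, rf (inf_le_left : U i ⊓ U j ≤ U i) (b i l) -
        rf (inf_le_right : U i ⊓ U j ≤ U j) (b j l) = sMap R (U i ⊓ U j) ϖ ^ N * w := by
      intro i j
      let V := U i ⊓ U j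
      let δ : Fin r → Γ(X, V) := fun l => rf inf_le_left (b i l) - rf inf_le_right (b j l)
      have h1 := congrArg (rs E (inf_le_left : V ≤ U i)) (hs i)
      have h2 := congrArg (rs E (inf_le_right : V ≤ U j)) (hs j)
      rw [Basis.rs_sum, Sections.rs_add, rs_rs, rs_sMap_smul] at h1 h2
      simp only [rs_smul] at h1 h2
      have h3 : ∑ l, δ l • rs E (inf_le_left : V ≤ U i) (xt i l) =
          sMap R V ϖ ^ N • (rs E inf_le_left (comb (e i) le_rfl (Matrix.vecMul (co i s) (W₂ i))) -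
            rs E inf_le_right (comb (e j) le_rfl (Matrix.vecMul (co j s) (W₂ j))) -
            ∑ l, rf (inf_le_right : V ≤ U j) (b j l) • w₀ i j l) := by
        simp only [δ, sub_smul, Finset.sum_sub_distrib, h1, smul_sub, Finset.smul_sum]
        have h4 : ∀ l, rf (inf_le_right : V ≤ U j) (b j l) • rs E (inf_le_left : V ≤ U i) (xt i l) =
            rf (inf_le_right : V ≤ U j) (b j l) • rs E (inf_le_right : V ≤ U j) (xt j l) +
              sMap R V ϖ ^ N • (rf (inf_le_right : V ≤ U j) (b j l) • w₀ i j l) := fun l => by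
          rw [smul_comm (sMap R V ϖ ^ N), ← hxt i j l, smul_sub, add_sub_cancel]
        simp only [h4, Finset.sum_add_distrib, h2]
        abel
      obtain ⟨v, hv⟩ := (he i V inf_le_left).2 (rs E inf_le_left
        (comb (e i) le_rfl (Matrix.vecMul (co i s) (W₂ i))) -
        rs E inf_le_right (comb (e j) le_rfl (Matrix.vecMul (co j s) (W₂ j))) -
        ∑ l, rf (inf_le_right : V ≤ U j) (b j l) • w₀ i j l)
      have h5 : Matrix.vecMul δ ((C i).map (rf inf_le_left)) = sMap R V ϖ ^ N • v := by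
        refine (he i V inf_le_left).1 ?_
        rw [comb_smul, hv, ← h3, comb_vecMul]
        refine Finset.sum_congr rfl fun l _ => congrArg (δ l • ·) ?_
        exact (rs_comb (e i) le_rfl inf_le_left (C i l)).symm
      have h6 := congrArg (fun x => Matrix.vecMul x ((D i).map (rf inf_le_left : Γ(X, U i) → Γ(X, V)))) h5
      have h7 : (C i).map (rf inf_le_left : Γ(X, U i) → Γ(X, V)) *
          (D i).map (rf inf_le_left : Γ(X, U i) → Γ(X, V)) =
          1 + sMap R V ϖ ^ N • (W₁ i).map (rf inf_le_left : Γ(X, U i) → Γ(X, V)) := by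
        let ρ := (X.presheaf.map (homOfLE (inf_le_left : V ≤ U i)).op).hom
        show (C i).map ρ * (D i).map ρ = 1 + sMap R V ϖ ^ N • (W₁ i).map ρ
        rw [← Matrix.map_mul, hW₁ i, ← RingHom.mapMatrix_apply, map_add, map_one]
        refine congrArg (1 + ·) (Matrix.ext fun p q => ?_)
        simp only [RingHom.mapMatrix_apply, Matrix.map_apply, Matrix.smul_apply, smul_eq_mul, map_mul]
        rw [show ρ (sMap R (U i) ϖ ^ N) = sMap R V ϖ ^ N from rf_pow_sMap _ ϖ N]
      simp only [Matrix.vecMul_vecMul, h7, Matrix.vecMul_add, Matrix.vecMul_one, Matrix.vecMul_smul,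
        Matrix.smul_vecMul] at h6
      intro l
      refine ⟨Matrix.vecMul v ((D i).map (rf inf_le_left : Γ(X, U i) → Γ(X, V))) l -
        Matrix.vecMul δ ((W₁ i).map (rf inf_le_left : Γ(X, U i) → Γ(X, V))) l, ?_⟩
      have h8 := congrFun h6 l
      simp only [Pi.add_apply, Pi.smul_apply, smul_eq_mul] at h8
      rw [mul_sub, ← h8, add_sub_cancel_right]
    choose g hg using fun l => hlift U hU hcov (fun i => b i l) (fun i j => hb i j l)
    choose wg hwg using hg
    refine ⟨g, funext fun i => hred' i _ _ ⟨Matrix.vecMul (fun l => wg l i) (C i) +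
      c i ^ (N - m) • Matrix.vecMul (co i s) (W₂ i), ?_⟩⟩
    have h1 : (fun l => rf (le_top : U i ≤ ⊤) (g l)) = b i + c i ^ m • fun l => wg l i :=
      funext fun l => by
        rw [Pi.add_apply, Pi.smul_apply, smul_eq_mul]
        exact sub_eq_iff_eq_add'.1 (hwg l i)
    show Matrix.vecMul (fun l => rf (le_top : U i ≤ ⊤) (g l)) (C i) - co i s = _
    rw [h1, Matrix.add_vecMul, Matrix.smul_vecMul, hbC i, smul_add, smul_smul, ← pow_add,
      Nat.add_sub_cancel' hmN]
    abel
  have hlat := Lattice.exists_eq_pow_smul hϖ e₀ m (by omega)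
    (fun x k hk => by
      rw [Rank.smul_def, map_pow] at hk ⊢; exact hMtors ⊤ x k hk)
    (fun x k hk => funext fun l => by
      have h1 := congrFun hk l
      rw [Pi.smul_apply, smul_fun_def, map_pow] at h1 ⊢
      exact htors ⊤ (x l) k h1)
    f p hV hf hp hrange hfinrank
  choose s hs using fun l => hlat (Pi.single l 1)
  have hZ : ∀ l i, ∃ w, co i (s l) = c i ^ (4 * e₀) • C i l + c i ^ m • w := by
    intro l i
    have h1 : q i (Pi.single l 1) = C i l := funext fun k => by
      show ∑ l', rf le_top ((Pi.single l 1 : Fin r → Γ(X, ⊤)) l') * C i l' k = _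
      rw [Finset.sum_eq_single l (fun l' _ hl' => by rw [Pi.single_eq_of_ne hl', rf_zero, zero_mul])
        (fun h => absurd (Finset.mem_univ l) h), Pi.single_eq_same]
      exact (congrArg (· * C i l k) (map_one (X.presheaf.map (homOfLE le_top).op).hom)).trans (one_mul _)
    have h2 : red i (co i (s l)) = red i (c i ^ (4 * e₀) • C i l) := by
      refine (congrFun (hs l) i).trans ?_
      show ϖ ^ (4 * e₀) • red i (q i (Pi.single l 1)) = _
      rw [h1, ← map_smul, smul_pi_def, map_pow]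
    obtain ⟨w, hw⟩ := hred i _ (by rw [map_sub, h2, sub_self] :
      red i (co i (s l) - c i ^ (4 * e₀) • C i l) = 0)
    exact ⟨w, sub_eq_iff_eq_add'.1 hw⟩
  choose wZ hwZ using hZ
  let z : ∀ i, Fin r → Γ(E, U i) := fun i l => xt i l + c i ^ (m - 4 * e₀) • comb (e i) le_rfl (wZ l i)
  have hglue := fun l => exists_glue hMtors U hcov (4 * e₀) (s l) (fun i => z i l)
    (fun i => by
      rw [← hco i (s l), hwZ l i, comb_add, comb_smul, comb_smul, smul_add, smul_smul, ← pow_add,
        Nat.add_sub_cancel' (by omega : 4 * e₀ ≤ m)])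
    fun i j => ⟨sMap R (U i ⊓ U j) ϖ ^ (N - e₀) • w₀ i j l +
      sMap R (U i ⊓ U j) ϖ ^ (m - 5 * e₀) •
        (rs E (inf_le_left : U i ⊓ U j ≤ U i) (comb (e i) le_rfl (wZ l i)) -
          rs E (inf_le_right : U i ⊓ U j ≤ U j) (comb (e j) le_rfl (wZ l j))), by
      show rs E _ (xt i l + _) - rs E _ (xt j l + _) = _
      rw [Sections.rs_add, Sections.rs_add, rs_sMap_smul, rs_sMap_smul, add_sub_add_comm, hxt i j l,
        ← smul_sub, smul_add, smul_smul, smul_smul, ← pow_add, ← pow_add,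
        Nat.add_sub_cancel' (by omega : e₀ ≤ N), show e₀ + (m - 5 * e₀) = m - 4 * e₀ by omega]⟩
  choose y hy hyz using hglue
  refine exists_isIso_of_basis (isBasis_of_forall_exists (e := y) fun x _ => ?_)
  obtain ⟨x₀, hxx₀, hx₀⟩ := exists_specializes_closed (R := R) x
  obtain ⟨i, hi⟩ := Opens.mem_iSup.1 (hcov (Opens.mem_top x₀))
  let ev := (X.evaluation (U i) x₀ hi).hom
  obtain ⟨W, hWU, hxW, hW⟩ := exists_basis_near (he i) ev x₀ hi
    (fun t ht => by
      by_contra h
      exact ht ((Scheme.evaluation_eq_zero_iff_notMem_basicOpen (x := x₀) (hx := hi) X t).2 h))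
    (C i) (D i) (hevC x₀ hx₀ i hi).1 (hevC x₀ hx₀ i hi).2 (z i)
    (Matrix.of fun l => C i l + c i ^ (m - 4 * e₀) • wZ l i)
    (fun l => by
      exact ((comb_add _ _ _ _).trans (congrArg (_ + ·) (comb_smul _ _ _ _))).symm)
    (Matrix.ext fun l k => by
      rw [Matrix.map_apply, Matrix.map_apply, Matrix.of_apply, Pi.add_apply, Pi.smul_apply,
        smul_eq_mul, map_add, map_mul, map_pow, show ev (c i) = 0 from hev x₀ hx₀ i hi,
        zero_pow (by omega), zero_mul, add_zero])
  refine ⟨W, le_top, hxx₀.mem_open W.2 hxW, ?_⟩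
  convert hW using 1
  funext l
  rw [← hyz l i, rs_rs]

end

end Groth.Agent.H20.FreeThick.Main
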