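import Groth.Agent.H84.FormalFun.FinCoh
import Groth.Agent.H84.FormalFun.Thick
import Groth.Agent.Lib.ProjKoszul.Regularity
import Groth.Agent.Lib.TensorMod.Basis
import Groth.Agent.Lib.TensorMod.HomGlue
import Groth.Agent.Lib.Perfect.Coherent
import Groth.Agent.S0002

/-!
# Sections modulo a power of a constant

For `a` in the base ring: torsion exponents, gluing of divided sections, lifting of functions modulo powers of `a`.
-/

set_option autoImplicit false
set_option linter.style.haveILetI false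

universe u

open CategoryTheory Limits AlgebraicGeometry Opposite TopologicalSpace

namespace Groth.Agent.H20.FreeThick.Sections

open Groth.Agent.Lib Groth.Agent.Lib.TensorMod Groth.Agent.Lib.TensorMod.Dual
open Groth.Agent.Lib.TensorMod.Basis Groth.Agent.H78.Formal.Sections

noncomputable section

variable {R : Type u} [CommRing R] {X : Scheme.{u}} [X.Over (Spec (CommRingCat.of R))]

theorem rf_sMap {U V : X.Opens} (h : V ≤ U) (a : R) : rf h (sMap R U a) = sMap R V a := res_sMap h a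

theorem rf_mul {U V : X.Opens} (h : V ≤ U) (x y : Γ(X, U)) : rf h (x * y) = rf h x * rf h y :=
  map_mul (X.presheaf.map (homOfLE h).op).hom x y

theorem rf_pow {U V : X.Opens} (h : V ≤ U) (x : Γ(X, U)) (n : ℕ) : rf h (x ^ n) = rf h x ^ n :=
  map_pow (X.presheaf.map (homOfLE h).op).hom x n

theorem rf_zero {U V : X.Opens} (h : V ≤ U) : rf h (0 : Γ(X, U)) = 0 :=
  map_zero (X.presheaf.map (homOfLE h).op).hom

theorem rf_pow_sMap {U V : X.Opens} (h : V ≤ U) (a : R) (n : ℕ) :
    rf h (sMap R U a ^ n) = sMap R V a ^ n := by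
  rw [rf_pow, rf_sMap]

theorem rs_sMap_smul (M : X.Modules) {U V : X.Opens} (h : V ≤ U) (a : R) (n : ℕ) (x : Γ(M, U)) :
    rs M h (sMap R U a ^ n • x) = sMap R V a ^ n • rs M h x := by
  rw [rs_smul, rf_pow_sMap]

theorem rs_zero (M : X.Modules) {U V : X.Opens} (h : V ≤ U) : rs M h 0 = 0 :=
  map_zero (M.presheaf.map (homOfLE h).op).hom

theorem rs_add (M : X.Modules) {U V : X.Opens} (h : V ≤ U) (x y : Γ(M, U)) :
    rs M h (x + y) = rs M h x + rs M h y := map_add (M.presheaf.map (homOfLE h).op).hom x y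

theorem rs_sub (M : X.Modules) {U V : X.Opens} (h : V ≤ U) (x y : Γ(M, U)) :
    rs M h (x - y) = rs M h x - rs M h y := map_sub (M.presheaf.map (homOfLE h).op).hom x y

/-- Sections which agree near every point agree. -/
theorem ext_locally (M : X.Modules) {V : X.Opens} {a b : Γ(M, V)}
    (h : ∀ x ∈ V, ∃ (W : X.Opens) (hW : W ≤ V), x ∈ W ∧ rs M hW a = rs M hW b) : a = b := by
  choose W hW hxW he using h
  refine HomGlue.sections_ext_cover (fun x : V => W x.1 x.2) M
    (fun x hx => Opens.mem_iSup.2 ⟨⟨x, hx⟩, hxW x hx⟩) fun x => ?_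
  have := congrArg (rs M (inf_le_right : V ⊓ W x.1 x.2 ≤ W x.1 x.2)) (he x.1 x.2)
  rwa [rs_rs, rs_rs] at this

/-- `a ^ e` kills every function killed by a power of `a`. -/
def Tors (X : Scheme.{u}) [X.Over (Spec (CommRingCat.of R))] (a : R) (e : ℕ) : Prop :=
  ∀ (U : X.Opens) (z : Γ(X, U)) (n : ℕ), sMap R U a ^ n * z = 0 → sMap R U a ^ e * z = 0

theorem exists_pow_bound {A : Type*} [CommRing A] [IsNoetherianRing A] (c : A) :
    ∃ n₀ : ℕ, ∀ (t : A) (k : ℕ), c ^ k * t = 0 → c ^ n₀ * t = 0 := by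
  let chain : ℕ →o Ideal A :=
    { toFun := fun n => LinearMap.ker (LinearMap.mulLeft A (c ^ n))
      monotone' := fun i j hij x hx => by
        rw [LinearMap.mem_ker, LinearMap.mulLeft_apply] at hx ⊢
        rw [← Nat.sub_add_cancel hij, pow_add, mul_assoc, hx, mul_zero] }
  obtain ⟨N, hN⟩ := monotone_stabilizes_iff_noetherian.mpr (inferInstance : IsNoetherian A A) chain
  refine ⟨N, fun t k hk => ?_⟩
  have h : t ∈ chain (max N k) := chain.monotone (le_max_right N k) (LinearMap.mem_ker.mpr hk)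
  rw [← hN _ (le_max_left N k)] at h
  exact LinearMap.mem_ker.mp h

/-- On a Noetherian scheme some exponent bounds the torsion of functions. -/
theorem exists_tors [CompactSpace X] [IsLocallyNoetherian X] (a : R) : ∃ e, Tors X a e := by
  let P : X.Opens → ℕ → Prop := fun U n => ∀ (V : X.Opens), V ≤ U → ∀ (z : Γ(X, V)) (k : ℕ),
    sMap R V a ^ k * z = 0 → sMap R V a ^ n * z = 0
  obtain ⟨e, he⟩ := exists_uniform P
    (fun U m n hmn h V hV z k hz => by
      rw [← Nat.sub_add_cancel hmn, pow_add, mul_assoc, h V hV z k hz, mul_zero])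
    fun U hU => by
      haveI : IsNoetherianRing Γ(X, U) := IsLocallyNoetherian.component_noetherian ⟨U, hU⟩
      obtain ⟨n₀, hn₀⟩ := exists_pow_bound (sMap R U a)
      refine ⟨n₀, fun V hV z k hz => ext_locally (Coh.structureModule X) fun x hx => ?_⟩
      obtain ⟨g, hgV, hxg⟩ := hU.exists_basicOpen_le ⟨x, hx⟩ (hV hx)
      refine ⟨X.basicOpen g, hgV, hxg, ?_⟩
      let φ : Γ(X, U) →+* Γ(X, X.basicOpen g) := algebraMap _ _
      have hφ : φ (sMap R U a) = sMap R (X.basicOpen g) a := res_sMap _ a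
      have hw : φ (sMap R U a) ^ k * rf hgV z = 0 := by
        have h1 := congrArg (rf hgV) hz
        rwa [rf_mul, rf_pow_sMap, rf_zero, ← hφ] at h1
      haveI := hU.isLocalization_basicOpen g
      obtain ⟨⟨t, s⟩, hts⟩ := IsLocalization.surj (Submonoid.powers g) (rf hgV z)
      change rf hgV z * φ s = φ t at hts
      have h2 : φ (sMap R U a ^ k * t) = 0 := by
        rw [map_mul, map_pow, ← hts, ← mul_assoc, hw, zero_mul]
      obtain ⟨s', hs'⟩ := (IsLocalization.map_eq_zero_iff (Submonoid.powers g) _ _).1 h2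
      have h3 := hn₀ ((s' : Γ(X, U)) * t) k (by rw [← hs']; ring)
      have h4 : φ (sMap R U a) ^ n₀ * rf hgV z = 0 := by
        have h5 := congrArg φ h3
        rw [map_mul, map_pow, map_mul, map_zero, ← hts] at h5
        refine ((IsLocalization.map_units _ s).mul (IsLocalization.map_units _ s')).mul_left_eq_zero.1 ?_
        rw [← h5]
        ring
      rw [hφ] at h4
      show rf hgV (sMap R V a ^ n₀ * z) = rf hgV 0
      rw [rf_mul, rf_pow_sMap, h4, rf_zero]
  refine ⟨e, fun U z n hz => ext_locally (Coh.structureModule X) fun x hx => ?_⟩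
  obtain ⟨W, -, hxW, hW⟩ := he x
  refine ⟨U ⊓ W, inf_le_left, ⟨hx, hxW⟩, ?_⟩
  show rf (inf_le_left : U ⊓ W ≤ U) (sMap R U a ^ e * z) = rf inf_le_left 0
  rw [rf_mul, rf_pow_sMap, rf_zero]
  refine hW (U ⊓ W) inf_le_right _ n ?_
  have h1 := congrArg (rf (inf_le_left : U ⊓ W ≤ U)) hz
  rwa [rf_mul, rf_pow_sMap, rf_zero] at h1

/-- `a ^ e` kills every section of `M` killed by a power of `a`. -/
def TorsMod (M : X.Modules) (a : R) (e : ℕ) : Prop :=
  ∀ (U : X.Opens) (z : Γ(M, U)) (n : ℕ), sMap R U a ^ n • z = 0 → sMap R U a ^ e • z = 0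

theorem torsMod_structure {a : R} {e : ℕ} (h : Tors X a e) : TorsMod (Coh.structureModule X) a e := h

theorem comb_smul {M : X.Modules} {U : X.Opens} {n : ℕ} (b : Fin n → Γ(M, U)) {V : X.Opens}
    (h : V ≤ U) (r : Γ(X, V)) (v : Fin n → Γ(X, V)) : comb b h (r • v) = r • comb b h v := by
  simp only [comb, Pi.smul_apply, smul_eq_mul, mul_smul, Finset.smul_sum]

theorem comb_add {M : X.Modules} {U : X.Opens} {n : ℕ} (b : Fin n → Γ(M, U)) {V : X.Opens}
    (h : V ≤ U) (v w : Fin n → Γ(X, V)) : comb b h (v + w) = comb b h v + comb b h w := by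
  simp only [comb, Pi.add_apply, add_smul, Finset.sum_add_distrib]

theorem comb_zero {M : X.Modules} {U : X.Opens} {n : ℕ} (b : Fin n → Γ(M, U)) {V : X.Opens}
    (h : V ≤ U) : comb b h 0 = 0 := by simp [comb]

/-- Locally free modules have the torsion exponent of the functions. -/
theorem torsMod_of_basis {a : R} {e : ℕ} (h : Tors X a e) (M : X.Modules)
    (hM : ∀ x : X, ∃ (U : X.Opens) (n : ℕ) (b : Fin n → Γ(M, U)), x ∈ U ∧ IsBasis b) :
    TorsMod M a e := fun U z n hz => ext_locally M fun x hx => by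
  obtain ⟨W, r, b, hxW, hb⟩ := hM x
  refine ⟨U ⊓ W, inf_le_left, ⟨hx, hxW⟩, ?_⟩
  obtain ⟨v, hv⟩ := (hb (U ⊓ W) inf_le_right).2 (rs M inf_le_left z)
  have h1 : sMap R (U ⊓ W) a ^ n • v = 0 := (hb (U ⊓ W) inf_le_right).1 (by
    rw [comb_smul, hv, comb_zero, ← rs_sMap_smul, hz, rs_zero])
  rw [rs_sMap_smul, ← hv, ← comb_smul, rs_zero, ← comb_zero b (inf_le_right : U ⊓ W ≤ W)]
  congr 1
  exact funext fun i => h (U ⊓ W) (v i) n (congrFun h1 i)

/-- Gluing of divided sections whose differences lie in `a ^ e`. -/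
theorem exists_glue {M : X.Modules} {a : R} {e : ℕ} (hM : TorsMod M a e) {ι : Type*}
    (U : ι → X.Opens) (hU : ⊤ ≤ iSup U) (k : ℕ) (s : Γ(M, ⊤)) (z : ∀ i, Γ(M, U i))
    (hz : ∀ i, sMap R (U i) a ^ k • z i = rs M le_top s)
    (hdiff : ∀ i j, ∃ w : Γ(M, U i ⊓ U j),
      rs M inf_le_left (z i) - rs M inf_le_right (z j) = sMap R (U i ⊓ U j) a ^ e • w) :
    ∃ y : Γ(M, ⊤), sMap R (⊤ : X.Opens) a ^ k • y = s ∧ ∀ i, rs M le_top y = z i := by
  obtain ⟨y, hy, -⟩ := TopCat.Sheaf.existsUnique_gluing' (⟨M.presheaf, M.isSheaf⟩ : TopCat.Sheaf Ab.{u} X)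
    U ⊤ (fun i => homOfLE le_top) hU z fun i j => by
      change rs M inf_le_left (z i) = rs M inf_le_right (z j)
      obtain ⟨w, hw⟩ := hdiff i j
      refine sub_eq_zero.1 (hw.trans (hM _ w (k + e) ?_))
      have h1 := congrArg (rs M (inf_le_left : U i ⊓ U j ≤ U i)) (hz i)
      have h2 := congrArg (rs M (inf_le_right : U i ⊓ U j ≤ U j)) (hz j)
      rw [rs_sMap_smul, rs_rs] at h1 h2
      rw [pow_add, mul_smul, ← hw, smul_sub, h1, h2, sub_self]
  replace hy : ∀ i, rs M le_top y = z i := hy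
  refine ⟨y, ext_locally M fun x _ => ?_, hy⟩
  obtain ⟨i, hi⟩ := Opens.mem_iSup.1 (hU (Opens.mem_top x))
  exact ⟨U i, le_top, hi, by rw [rs_sMap_smul, hy i, hz i]⟩

/-- Sections divisible by `a ^ m` near every point are divisible by `a ^ (m - e)`. -/
theorem exists_div {M : X.Modules} {a : R} {e : ℕ} (hM : TorsMod M a e) {ι : Type*}
    (U : ι → X.Opens) (hU : ⊤ ≤ iSup U) {m : ℕ} (hem : e ≤ m) (s : Γ(M, ⊤))
    (h : ∀ i, ∃ w : Γ(M, U i), rs M le_top s = sMap R (U i) a ^ m • w) :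
    ∃ y : Γ(M, ⊤), s = sMap R (⊤ : X.Opens) a ^ (m - e) • y := by
  choose w hw using h
  obtain ⟨y, hy, -⟩ := exists_glue hM U hU (m - e) s (fun i => (sMap R (U i) a ^ e • w i : Γ(M, U i)))
    (fun i => by rw [smul_smul, ← pow_add, Nat.sub_add_cancel hem, hw])
    fun i j => ⟨rs M inf_le_left (w i) - rs M inf_le_right (w j), by
      rw [rs_sMap_smul, rs_sMap_smul, smul_sub]⟩
  exact ⟨y, hy.symm⟩

theorem sIdeal_span_singleton (a : R) (n : ℕ) (U : X.Opens) :
    sIdeal (Ideal.span {a}) U ^ n = Ideal.span {sMap R U a ^ n} := by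
  rw [sIdeal, Ideal.map_span, Set.image_singleton, Ideal.span_singleton_pow]

theorem modPowπ_eq_zero_iff' {M : X.Modules} [M.IsQuasicoherent] (a : R) (n : ℕ) {U : X.Opens}
    (hU : IsAffineOpen U) (s : Γ(M, U)) :
    (_root_.Formal.modPowπ (Ideal.span {a}) n M).app U s = 0 ↔ ∃ w, s = sMap R U a ^ n • w := by
  rw [modPowπ_eq_zero_iff _ _ hU, sIdeal_span_singleton, Submodule.ideal_span_singleton_smul]
  constructor
  · intro h
    obtain ⟨w, -, hw⟩ := (Submodule.mem_smul_pointwise_iff_exists _ _ _).1 h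
    exact ⟨w, hw.symm⟩
  · rintro ⟨w, rfl⟩
    exact Submodule.smul_mem_pointwise_smul _ _ _ trivial

/-- Compatible functions modulo a high power of `a` lift globally modulo a given power. -/
theorem exists_lift [IsNoetherianRing R] [IsProper (X ↘ Spec (CommRingCat.of R))] (a : R) (m : ℕ) :
    ∃ n, m ≤ n ∧ ∀ {ι : Type u} (U : ι → X.Opens), (∀ i, IsAffineOpen (U i)) → ⊤ ≤ iSup U →
      ∀ b : ∀ i, Γ(X, U i), (∀ i j, ∃ w, rf (inf_le_left : U i ⊓ U j ≤ U i) (b i) -
          rf (inf_le_right : U i ⊓ U j ≤ U j) (b j) = sMap R (U i ⊓ U j) a ^ n * w) →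
        ∃ g : Γ(X, ⊤), ∀ i, ∃ w, rf le_top g - b i = sMap R (U i) a ^ m * w := by
  haveI : IsLocallyNoetherian X := LocallyOfFiniteType.isLocallyNoetherian (X ↘ Spec (CommRingCat.of R))
  haveI : CompactSpace X :=
    QuasiCompact.compactSpace_of_compactSpace (X ↘ Spec (CommRingCat.of R))
  haveI : IsNoetherian X := {}
  haveI : X.IsSeparated := Scheme.IsSeparated.mk (by
    rw [← terminal.comp_from (X ↘ Spec (CommRingCat.of R))]; infer_instance)
  let O := Coh.structureModule X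
  have hO : Coh.IsCoh O := CohBasics.Closure.isCoh_of_iso (TensorMod.LocFree.freeModOneIso X)
    (Perfect.Coherent.isCoh_freeMod X 1)
  haveI := hO.1
  let J : Ideal R := Ideal.span {a}
  obtain ⟨N, hN, hlift⟩ := (H84.FormalFun.FinCoh.k_and_ml hO
    (fun p => Groth.Agent.S0002.result R X O hO p) J).2 0 m
  refine ⟨N + 1, by omega, fun U hU hcov b hb => ?_⟩
  let bb : ∀ i, Γ(O, U i) := b
  obtain ⟨t, ht, -⟩ := TopCat.Sheaf.existsUnique_gluing'
    (⟨(_root_.Formal.modPow J (N + 1) O).presheaf, Scheme.Modules.isSheaf _⟩ : TopCat.Sheaf Ab.{u} X)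
    U ⊤ (fun i => homOfLE le_top) hcov (fun i => (_root_.Formal.modPowπ J (N + 1) O).app (U i) (bb i))
    fun i j => by
      change rs _ inf_le_left ((_root_.Formal.modPowπ J (N + 1) O).app (U i) (bb i)) =
        rs _ inf_le_right ((_root_.Formal.modPowπ J (N + 1) O).app (U j) (bb j))
      rw [HomGlue.rs_app, HomGlue.rs_app, ← sub_eq_zero, ← map_sub]
      obtain ⟨w, hw⟩ := hb i j
      exact (modPowπ_eq_zero_iff' a _ ((hU i).inf (hU j)) _).2 ⟨w, hw⟩
  replace ht : ∀ i, rs _ le_top t = (_root_.Formal.modPowπ J (N + 1) O).app (U i) (bb i) := ht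
  obtain ⟨x, hx⟩ := hlift ((Curves.GlobalSections.h0Equiv _).symm t)
  refine ⟨Curves.GlobalSections.h0Equiv O x, fun i => ?_⟩
  have h1 := congrArg (Curves.GlobalSections.h0Equiv _) hx
  rw [ProjKoszul.Regularity.h0Equiv_mapK (R := R), ProjKoszul.Regularity.h0Equiv_mapK (R := R)] at h1
  replace h1 := h1.trans (congrArg _ ((Curves.GlobalSections.h0Equiv
    (_root_.Formal.modPow J (N + 1) O)).apply_symm_apply t))
  let g : Γ(O, ⊤) := Curves.GlobalSections.h0Equiv O x
  have h2 : (_root_.Formal.modPowπ J (m + 1) O).app (U i) (rs O le_top g) =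
      (Formal2.modPowLE J (Nat.succ_le_succ hN) O).app (U i)
        (rs (_root_.Formal.modPow J (N + 1) O) le_top t) :=
    ((HomGlue.rs_app _ _ _).symm.trans (congrArg (rs _ (le_top : U i ≤ ⊤)) h1)).trans
      (HomGlue.rs_app _ _ _)
  have h3 := ConcreteCategory.congr_hom (congrArg (fun φ => Scheme.Modules.Hom.app φ (U i))
    (Formal2.modPowπ_modPowLE J (Nat.succ_le_succ hN) O)) (bb i)
  rw [Scheme.Modules.Hom.comp_app, CategoryTheory.comp_apply] at h3
  rw [ht i] at h2
  replace h2 := h2.trans h3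
  rw [← sub_eq_zero, ← map_sub, modPowπ_eq_zero_iff' a (m + 1) (hU i)] at h2
  obtain ⟨w, hw⟩ := h2
  let w' : Γ(X, U i) := w
  refine ⟨sMap R (U i) a * w', hw.trans ?_⟩
  show sMap R (U i) a ^ (m + 1) * w' = _
  rw [pow_succ, mul_assoc]

/-- The kernel of restricting to `X ×_R R/I` on an affine open is generated by `I`. -/
theorem ker_app_le (I : Ideal R) {U : X.Opens} (hU : IsAffineOpen U) (t : Γ(X, U))
    (ht : (pullback.fst (X ↘ Spec (CommRingCat.of R))
      (Spec.map (CommRingCat.ofHom (Ideal.Quotient.mk I)))).app U t = 0) :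
    t ∈ sIdeal I U := by
  let pX := X ↘ Spec (CommRingCat.of R)
  let σ : Spec (CommRingCat.of (R ⧸ I)) ⟶ Spec (CommRingCat.of R) :=
    Spec.map (CommRingCat.ofHom (Ideal.Quotient.mk I))
  haveI : IsClosedImmersion σ := IsClosedImmersion.spec_of_surjective _ Ideal.Quotient.mk_surjective
  let j := pullback.fst pX σ
  haveI : IsClosedImmersion j := inferInstanceAs (IsClosedImmersion (pullback.fst pX σ))
  let U₀ : (Spec (CommRingCat.of R)).affineOpens := ⟨⊤, isAffineOpen_top _⟩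
  have sq : IsPullback (pullback.snd pX σ) j σ pX := (IsPullback.of_hasPullback pX σ).flip
  have e : U ≤ pX ⁻¹ᵁ U₀.1 := le_top
  have e' : j ⁻¹ᵁ U ≤ pullback.snd pX σ ⁻¹ᵁ (σ ⁻¹ᵁ U₀.1) := le_top
  have po := HilbD.Content.isPushout_appLE sq U₀ ⟨U, hU⟩ e e'
  let K : Ideal Γ(X, U) := sIdeal I U
  let q : Γ(X, U) ⟶ CommRingCat.of (Γ(X, U) ⧸ K) := CommRingCat.ofHom (Ideal.Quotient.mk K)
  let r₀ : R ⧸ I →+* Γ(X, U) ⧸ K :=
    Ideal.Quotient.lift _ ((Ideal.Quotient.mk K).comp (sMap R U))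
      fun a ha => Ideal.Quotient.eq_zero_iff_mem.2 (mem_sIdeal ha)
  let r : Γ(Spec (CommRingCat.of (R ⧸ I)), σ ⁻¹ᵁ U₀.1) ⟶ CommRingCat.of (Γ(X, U) ⧸ K) :=
    (Scheme.ΓSpecIso (CommRingCat.of (R ⧸ I))).hom ≫ CommRingCat.ofHom r₀
  have hw : pX.appLE U₀.1 U e ≫ q = σ.app U₀.1 ≫ r := by
    refine (cancel_epi (Scheme.ΓSpecIso (CommRingCat.of R)).inv).1 ?_
    refine CommRingCat.hom_ext (RingHom.ext fun a => ?_)
    have h2 := ConcreteCategory.congr_hom (Scheme.ΓSpecIso_inv_naturality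
      (CommRingCat.ofHom (Ideal.Quotient.mk I))) a
    change Ideal.Quotient.mk K (pX.appLE U₀.1 U e ((Scheme.ΓSpecIso (CommRingCat.of R)).inv a)) =
      r₀ ((Scheme.ΓSpecIso _).hom (σ.appTop ((Scheme.ΓSpecIso (CommRingCat.of R)).inv a)))
    rw [show σ.appTop ((Scheme.ΓSpecIso (CommRingCat.of R)).inv a) =
        (Scheme.ΓSpecIso (CommRingCat.of (R ⧸ I))).inv (Ideal.Quotient.mk _ a) from h2.symm,
      ← ConcreteCategory.comp_apply (Scheme.ΓSpecIso (CommRingCat.of (R ⧸ I))).inv, Iso.inv_hom_id]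
    exact congrArg (Ideal.Quotient.mk K)
      (rfl : pX.appLE U₀.1 U e ((Scheme.ΓSpecIso (CommRingCat.of R)).inv a) = sMap R U a)
  have hd := ConcreteCategory.congr_hom (po.inl_desc q r hw) t
  refine Ideal.Quotient.eq_zero_iff_mem.1 ?_
  change q t = 0
  rw [← hd, ConcreteCategory.comp_apply]
  exact (congrArg _ ht).trans (map_zero _)

/-- Global sections of a coherent module on a proper scheme form a finite module. -/
theorem finite_sections [IsNoetherianRing R] [IsProper (X ↘ Spec (CommRingCat.of R))] {M : X.Modules}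
    (hM : Coh.IsCoh M) :
    letI := Module.compHom Γ(M, ⊤) (sMap R (⊤ : X.Opens))
    Module.Finite R Γ(M, ⊤) := by
  letI := Module.compHom Γ(M, ⊤) (sMap R (⊤ : X.Opens))
  haveI : Module.Finite R (Coh.HH X M 0) := Groth.Agent.S0002.result R X M hM 0
  let φ : Coh.HH X M 0 →ₗ[R] Γ(M, ⊤) :=
    { toFun := fun z => Curves.GlobalSections.h0Equiv M z
      map_add' := fun z w => map_add (Curves.GlobalSections.h0Equiv M) z w
      map_smul' := fun r z => by
        refine (Curves.GlobalSections.h0Equiv_smul M (Coh.toGlobal _ r) z).trans ?_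
        refine congrArg (fun g : Γ(X, ⊤) => g • (Curves.GlobalSections.h0Equiv M z : Γ(M, ⊤))) ?_
        change _ = (X.ringCatSheaf.obj.map (𝟙 (op ⊤))).hom
          (Coh.toGlobal (X ↘ Spec (CommRingCat.of R)) r)
        rw [CategoryTheory.Functor.map_id]
        rfl }
  exact Module.Finite.of_surjective φ (Curves.GlobalSections.h0Equiv M).surjective

end

end Groth.Agent.H20.FreeThick.Sections
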